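import Mathlib
import Cfsg.Agent.SLE.Base
import Cfsg.Agent.StdZ.Def0
import Cfsg.Agent.Chev.TwistCheck

/-! Standard components of type `²E₆(q)`, `q` even: definitions.
`x` is an `E₆`-family over `K` (`|K| = q²`) in a model group `A`, `s` the graph-field involution,
`zz x φ r a = x_r(a) x_{ρ r}(φ a)` the relative root elements (for `ρ r = r` this is
`x_r(a + φ a)`), `z` their lifts in `G`, `L = Gs chevE6 z`, `Θ : N(L) → A`. -/

set_option autoImplicit false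

namespace Cfsg.Agent.TwE

open Cfsg.Lie Cfsg.Agent.Chev Cfsg.Agent.SLE Subgroup

/-- root table of `E₆`; `θ = 71`, `θ - α₂ = 70`, `α₂ = 46`, `-r = 71 - r`, positive iff `36 ≤ r` -/
abbrev T6 : RootTable chevE6 := rootTableE6

/-- root table of `D₄` -/
abbrev T4 : RootTable chevD4 := rootTableD4

/-- the graph symmetry on the roots -/
abbrev ρ (r : ℕ) : ℕ := rhoE6 r

/-- the pairing of roots of `E₆` -/
abbrev pr (r s : ℕ) : ℤ := chevE6.pairing r s

/-- the negative of a root of `E₆` -/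
abbrev ng (r : ℕ) : ℕ := chevE6.neg r

/-- the `ρ`-fixed (long) roots as the roots of `D₄` -/
def i4 (r : ℕ) : ℕ :=
  [0, 1, 2, 6, 8, 11, 18, 20, 24, 25, 27, 32, 39, 44, 46, 47, 51, 53, 60, 63, 65, 69, 70, 71].getD r 0

/-- the inverse of `i4` -/
def j4 (r : ℕ) : ℕ :=
  [0, 1, 2, 0, 0, 0, 3, 0, 4, 0, 0, 5, 0, 0, 0, 0, 0, 0, 6, 0, 7, 0, 0, 0, 8, 9, 0, 10, 0, 0, 0, 0,
    11, 0, 0, 0, 0, 0, 0, 12, 0, 0, 0, 0, 13, 0, 14, 15, 0, 0, 0, 16, 0, 17, 0, 0, 0, 0, 0, 0, 18, 0,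
    0, 19, 0, 20, 0, 0, 0, 21, 22, 23].getD r 0

/-- coordinates of a root -/
def cf (r i : ℕ) : ℤ := (chevE6.coroot.getD r #[]).getD i 0

/-- decidable form of `Sm T6 r s k` -/
def sm (r s k : ℕ) : Prop := r < 72 ∧ s < 72 ∧ k < 72 ∧ ∀ i < 6, cf k i = cf r i + cf s i

instance (r s k : ℕ) : Decidable (sm r s k) := by unfold sm; infer_instance

/-- the functional with the values `l` on the simple roots -/
def fn (l : List ℤ) : (Fin chevE6.rank → ℤ) →+ ℤ where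
  toFun v := ∑ i : Fin chevE6.rank, l.getD i 0 * v i
  map_zero' := by simp
  map_add' u v := by simp [mul_add, Finset.sum_add_distrib]

/-- decidable form of `fn l (T6.vec r)` -/
def lv (l : List ℤ) (r : ℕ) : ℤ := ((List.range 6).map fun i => l.getD i 0 * cf r i).sum

theorem N6 : T6.N = 36 := by decide

theorem N4 : T4.N = 12 := by decide

theorem lt72 {r : ℕ} : r < 2 * T6.N ↔ r < 72 := by rw [N6]

theorem lt24 {r : ℕ} : r < 2 * T4.N ↔ r < 24 := by rw [N4]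

theorem nr72 {r : ℕ} : r < chevE6.nroots ↔ r < 72 := T6.lt_iff.trans lt72

theorem nr24 {r : ℕ} : r < chevD4.nroots ↔ r < 24 := T4.lt_iff.trans lt24

theorem vec6 : ∀ r < 72, ∀ i : Fin chevE6.rank, T6.vec r i = cf r i := by decide +kernel

theorem sm_iff {r s k : ℕ} : Sm T6 r s k ↔ sm r s k := by
  constructor
  · rintro ⟨h1, h2, h3, e⟩
    rw [lt72] at h1 h2 h3
    refine ⟨h1, h2, h3, fun i hi => ?_⟩
    have := congrFun e ⟨i, hi⟩
    rwa [Pi.add_apply, vec6 _ h1, vec6 _ h2, vec6 _ h3] at this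
  · rintro ⟨h1, h2, h3, e⟩
    refine ⟨lt72.2 h1, lt72.2 h2, lt72.2 h3, funext fun i => ?_⟩
    rw [Pi.add_apply, vec6 _ h1, vec6 _ h2, vec6 _ h3, e i i.2]

theorem fn_vec (l : List ℤ) {r : ℕ} (hr : r < 72) : fn l (T6.vec r) = lv l r := by
  show ∑ i : Fin chevE6.rank, l.getD i 0 * T6.vec r i = _
  simp only [vec6 r hr]
  show ∑ i : Fin 6, l.getD i 0 * cf r i = _
  simp [Fin.sum_univ_succ, lv, List.range_succ]

variable {K : Type*} [Field K] {A G : Type*} [Group A] [Group G]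

/-- the fixed field `F_q` -/
abbrev Fx (φ : K ≃+* K) : Subfield K := φ.toRingHom.eqLocusField (RingHom.id K)

/-- an element of trace one -/
noncomputable def om (φ : K ≃+* K) : K := Classical.epsilon fun w => w + φ w = 1

/-- the relative root elements of the model -/
def zz (x : ℕ → K → A) (φ : K ≃+* K) (r : ℕ) (a : K) : A := x r a * x (ρ r) (φ a)

/-- long root elements: the lift of `x_r(c)`, `ρ r = r` -/
noncomputable def zl (z : ℕ → K → G) (φ : K ≃+* K) (r : ℕ) (c : Fx φ) : G := z r (om φ * c)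

/-- the `D₄` family of long root elements -/
noncomputable def x4 (z : ℕ → K → G) (φ : K ≃+* K) (r : ℕ) (c : Fx φ) : G := zl z φ (i4 r) c

/-- `L` -/
abbrev LL (z : ℕ → K → G) : Subgroup G := Gs chevE6 z

/-- `U_L` -/
abbrev UU (z : ℕ → K → G) : Subgroup G := Us chevE6 z

/-- `P = Q.SU₆(q)` -/
abbrev PP (z : ℕ → K → G) : Subgroup G := HH T6 z 71

/-- `Q = O₂(P)` -/
def QQ (z : ℕ → K → G) : Subgroup G := XS z {r | r < 72 ∧ 0 < pr 71 r}

/-- the groups `M r` of the doubling -/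
def M4 (z : ℕ → K → G) (r : ℕ) : Subgroup G := HH T6 z (i4 r)

/-- the groups `N c k` of the doubling -/
def N4' (z : ℕ → K → G) (c k : ℕ) : Subgroup G := NN T6 z (i4 c) (i4 k)

/-- The model. -/
structure Tw (x : ℕ → K → A) (s : A) (φ : K ≃+* K) : Prop where
  lie : Lie T6 x
  ss : s * s = 1
  φφ : ∀ a, φ (φ a) = a
  φne : ∃ a, φ a ≠ a
  act : ∀ r < 72, ∀ a, s * x r a * s⁻¹ = x (ρ r) (φ a)

/-- The relations between relative root elements (they hold for `zz x φ` and for the lifts). -/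
structure RS (z : ℕ → K → G) (φ : K ≃+* K) : Prop where
  φφ : ∀ a, φ (φ a) = a
  φne : ∃ a, φ a ≠ a
  add : ∀ r < 72, ∀ a b, z r a * z r b = z r (a + b)
  rho : ∀ r < 72, ∀ a, z (ρ r) a = z r (φ a)
  com : ∀ r < 72, ∀ s < 72, 0 ≤ pr r s → 0 ≤ pr r (ρ s) → ∀ a b, Commute (z r a) (z s b)
  sum : ∀ r s k, sm r s k → 0 ≤ pr r (ρ s) → ∀ a b, z s b * z r a = z r a * z s b * z k (a * b)
  lng : ∀ r s k k', ρ r = r → ρ s ≠ s → sm r s k → sm k (ρ s) k' → ∀ a b,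
    z s b * z r a = z r a * z k ((a + φ a) * b) * z k' (a * (b * φ b)) * z s b
  ll : ∀ r s k, ρ r = r → ρ s = s → sm r s k → ∀ a b,
    z s b * z r a = z r a * z s b * z k (a * (b + φ b))
  inj : ∀ r < 72, ∀ a, z r a = 1 ↔ if ρ r = r then a + φ a = 0 else a = 0

/-- `w` commutes with `ρ` -/
def Wf (w : T6.W) : Prop := ∀ r < 72, T6.act w (ρ r) = ρ (T6.act w r)

/-- monomial elements of `L` -/
structure Mon (z : ℕ → K → G) (φ : K ≃+* K) (g : G) (w : T6.W) : Prop where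
  mem : g ∈ LL z
  wf : Wf w
  ex : ∃ c : ℕ → K, ∀ r < 72, c r ≠ 0 ∧ c (ρ r) = φ (c r) ∧ c (ng r) = (c r)⁻¹ ∧
    ∀ a, g * z r a * g⁻¹ = z (T6.act w r) (c r * a)

/-- diagonal times field -/
structure Df (z : ℕ → K → G) (φ : K ≃+* K) (d : G) (c : ℕ → K) (σ : K ≃+* K) : Prop where
  ne : ∀ r < 72, c r ≠ 0
  rho : ∀ r < 72, c (ρ r) = φ (c r)
  neg : ∀ r < 72, c (ng r) = (c r)⁻¹
  mul : ∀ r s k, sm r s k → c k = c r * c s
  comm : ∀ a, σ (φ a) = φ (σ a)
  conj : ∀ r < 72, ∀ a, d * z r a * d⁻¹ = z r (c r * σ a)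

/-- `g` commutes with enough elements of the relative root group of `r` -/
def Big (z : ℕ → K → G) (φ : K ≃+* K) (g : G) (r : ℕ) : Prop :=
  if ρ r = r then ∃ a, a + φ a ≠ 0 ∧ Commute g (z r a)
  else ∃ a b, a * φ b ≠ b * φ a ∧ Commute g (z r a) ∧ Commute g (z r b)

/-- the generators of the relative Weyl group: `n_r` for a root `r` -/
noncomputable def nz (z : ℕ → K → G) (φ : K ≃+* K) (r : ℕ) : G :=
  if ρ r = r then z r (om φ) * z (ng r) (om φ) * z r (om φ) else z r 1 * z (ng r) 1 * z r 1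

/-- the reflection induced by `nz r` -/
noncomputable def wz (r : ℕ) : T6.W := if ρ r = r then T6.rw r else T6.rw r * T6.rw (ρ r)

/-- `L = LL z` is a central extension of the twisted group, with centre of odd order, and `Θ`
describes the action of `N(L)`. -/
structure Cov (x : ℕ → K → A) (s : A) (φ : K ≃+* K) (z : ℕ → K → G) (Θ : G → A) : Prop
    extends Tw x s φ where
  triv : centralizer (Gs chevE6 x : Set A) = ⊥
  simple : IsSimpleGroup ↥(LL (zz x φ))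
  card : ∃ q : ℕ, Nat.card K = q ^ 2 ∧ Nat.gcd 3 (q + 1) * Nat.card ↥(LL (zz x φ)) =
    q ^ 36 * (q ^ 2 - 1) * (q ^ 5 + 1) * (q ^ 6 - 1) * (q ^ 8 - 1) * (q ^ 9 + 1) * (q ^ 12 - 1)
  cls : ∀ g ∈ LL (zz x φ), g * g = 1 → g ≠ 1 → ∃ l ∈ LL (zz x φ), l * g * l⁻¹ = x 71 1 ∨
    l * g * l⁻¹ = x 65 1 * x 69 1 ∨ l * g * l⁻¹ = x 53 1 * x 65 1 * x 69 1
  mul : ∀ a ∈ normalizer (LL z : Set G), ∀ b ∈ normalizer (LL z : Set G), Θ (a * b) = Θ a * Θ b
  map : ∀ r < 72, ∀ a, Θ (z r a) = zz x φ r a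
  sq : ∀ r < 72, ∀ a, z r a * z r a = 1
  ker : ∀ g ∈ normalizer (LL z : Set G), Θ g = 1 ↔ g ∈ centralizer (LL z : Set G)
  oddZ : ∀ g ∈ LL z, g ∈ centralizer (LL z : Set G) → Odd (orderOf g)
  cs : ∀ g ∈ normalizer (LL z : Set G), Commute s (Θ g)
  dec : ∀ g ∈ normalizer (LL z : Set G), ∃ l ∈ LL z, ∃ c σ, Nf T6 x (Θ (l⁻¹ * g)) id c σ

/-- `L` is standard, `t` the involution of `C(L)`. -/
structure Std (x : ℕ → K → A) (s : A) (φ : K ≃+* K) (z : ℕ → K → G) (Θ : G → A) (t : G) : Prop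
    extends Cov x s φ z Θ where
  tt : t * t = 1
  t1 : t ≠ 1
  tz : ∀ r < 72, ∀ a, Commute t (z r a)
  nrm : centralizer {t} ≤ normalizer (LL z : Set G)
  cyc : ∀ P : Subgroup G, P ≤ centralizer (LL z : Set G) → IsPGroup 2 P → IsCyclic P

/-- The scalar extension `dot r e a = e · z_r(a)` of the relative root groups in the field case;
`hk k f` is `h_k(f)` for a long root `k`. -/
structure Dot (z : ℕ → K → G) (φ : K ≃+* K) (t : G) (dot : ℕ → K → K → G) (hk : ℕ → K → G) :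
    Prop where
  one : ∀ r < 72, ∀ a, dot r 1 a = z r a
  tor : ∀ k < 72, ρ k = k → ∀ f, f ≠ 0 → ∀ r < 72, ∀ e a,
    hk k f * dot r e a * (hk k f)⁻¹ = dot r (f ^ pr k r * e) a
  addl : ∀ r < 72, ∀ e e' a, dot r e a * dot r e' a = dot r (e + e') a
  addr : ∀ r < 72, ∀ e a a', dot r e a * dot r e a' = dot r e (a + a')
  smul : ∀ r < 72, ∀ c, φ c = c → ∀ e a, dot r (c * e) a = dot r e (c * a)
  rho : ∀ r < 72, ∀ e a, dot (ρ r) e a = dot r e (φ a)
  com : ∀ r < 72, ∀ e e' a a', Commute (dot r e a) (dot r e' a')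
  act : ∀ r < 72, ∀ e a, t * dot r e a * t⁻¹ = dot r (φ e) a
  nrm : centralizer {t} ≤ normalizer (closure {g | ∃ r < 72, ∃ e a, g = dot r e a} : Set G)

/-- the root elements of `E₆(q²)` -/
noncomputable def yy (φ : K ≃+* K) (dot : ℕ → K → K → G) (r : ℕ) (b : K) : G :=
  dot r (b * φ (om φ)) 1 * dot r b (om φ)

end Cfsg.Agent.TwE
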