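import Mathlib
import Cfsg.Agent.TwE.Defs

/-! Finite facts on the roots of `E₆` and the symmetry `ρ`. -/

set_option autoImplicit false
set_option synthInstance.maxSize 2048

namespace Cfsg.Agent.TwE

open Cfsg.Lie Cfsg.Agent.Chev Cfsg.Agent.SLE Subgroup

/-- the table of the pairing -/
def pqN : ℕ := 0x8db6db6da4926db6db6d249249249249248924924949244924924871b6db4936d26da49245b69b69249125125a4924494892922492416e36d26d369a69369229b4d22da44b48a2534912914512894892096dc69a69b4da4d34d149a6d148b2d268945268a28a44a2514510496db8934da6da49a6ca4936ca45169a4c92924c945244944a2902496da51b6d369369245b49225b4da44a25b49225a4912912892424496d34e369b4d34d229a69145a68b2d145a69145348a28a25120a2896d26dc4da6d349949368a45365169929a4d129265228944a04948969b4da8db49b48b49a4d12912d328b69368a4522d225224844a25169a6d371a69b4526934ca28a2996534d34ca29149a25144128945169369b6e24db2924d26c948944a4da6d26c948a49324a4092512914db4da6946db48a25125a49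a4d328a45245b69b4d224909144a24a4da6d34d38db45144a25349349965229229b4da69a24828a28944a4d369b49b71b29128945269264a4d949149a6d369324125225128a49b6926db6e324a4892924c92924936ca4936d24db2092494912524924db6db6dc24925248925249249249b6d249b6db04924924a4926da4d248a4498db69b49b49b4da44a2522522512486da4d248a4496d349a45228971b4da69a69a68b2d145145144a2416d349a4522896d26932914896e26d36936936516992912912894096d269329148969b4916922516d46da4da4d12d328b68a44a44908969b49169225169a68a4d145169b8d34d34ca2996534ca28a28825169a68a4d14516936524992914db7126d26c944a4da6c948948124a6936524992916922da69224a6d34a36d125a4d328a45b6892122894db49144b4916914d34d144a69a69c6ca25349965229b4c90514514da68a28a69168a49b49928a4da4db8c945264a4d949a6c824a44a4d36522524d16524926d92524936db7092892924936d36c124929249b6494924994db49144b4916d34912636da4d328a44921b6922896922da69224a4da68a28a69169a68a25c6d349965228905b4d14516914d34d144a4d36522524d14da4c945b8d264a4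d948825a6ca44a68a49b49928a49b6494924994936c929b7092924936c12536c92926524926d92524d22da44b48a6d225a45a4636d328921a45a45b4894d22da44b48a4d14d328a68a69945345345c69965105a29a29a6514d14d328a68a4ca49b2524ca4d929265265b84a4d825949949364a4ca49b2524ca49a2d168b45268b45a29a29a31b24345345345a2d149a2d168b4524994ca4ca6526526532932932e160b2932932994994994ca4ca6524932996532924cb2994994994cc0ca6526526532ca49329965329249168b2d169245968b48b48b45885a2d22d22d165a49168b2d169248b45a45a2d22d22d169169164331969169168b48b48b45a45a2d248a6532994d22994ca68a68a6096e14d14d14ca65348a6532994d245a4896d245a44b6922d22c90da44c6cb48b4912da45a4896d245a45345169a29a28b4d14d14c828b2d38ca68a68a2d345345169a29a45264a4d949a2526ca4ca4c125169b70a4ca4c949b45264a4d949a4892db49248b49125b68921b6924912636d125b6922d249224b6d24512d26d245344a45b4c90522da44b49c6ca25a4da29a48948b69a44a29a69a29328a29a6c825148b2d269b8c94534d32934514534da4494934d94932514936c124a45169a4db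70929269b29264a2926da2d249224b6d249124921b69b6924912512636db6924892db49248b29a48948b69a44a44905b4d22da44b48a25c6da4da4512d26d24532934514534da28a28825a6d148b2d268945b8d34d344a29a69a29329264a2926da2514812536ca45169a4c929b71269b4494934d94932912d248b69344921225225b4da44a25b49b4a36da2912d248b69328a29a4534d328905145145a68b2d145a69a69c6d328a29a4534d32894932926d325024a44a45365169929a4da4db89b2894932926d325229169349b2422512912912d328b69369369b51b25229169349b25148a4d269b20944a28a28a2996534d34d34da6e325148a4d269b24a45249a4db04928948948944a4da6d26d26d36dc24a45249a4db4924492492486db6d249b6d24924924892524892498db6db6da4924892922492416da49b69245b69249125a49125244971b6db4936d245128948920969369b4d22922da44b49348a2512916e36d26d369a44a2514510494d34da6d149148b2d269268944a28a6dc69a69b4da44944a29024949a6d36ca48a45169a4d24c92894526db8934da6da29128924244969245225b49b4da44a25225b49a4916da51b6d369328a25120a2894d229145a69a68b2d145145a69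348a6d34e369b4d328944a04948949948a45369365169929129a4d26526d26dc4da6d325224844a25148b49129a4d12d328b68a4536922d269b4da8db49b25144128945145268a2934ca2996534ca2934d149a69a6d371a69b24a4092512912924c94926c944a4da6c94926ca49369369b6e24db24909144a24a48a25a49125a4d328a45b69245b4d24db4da6946db24828a28944a45145348a25349965229b4d229a69a4da6d34d38db24125225128a29129268945264a4d949a6d14936934d369b49b71b20924949125224a4924c92892924936d36ca4924db49b6926db6e304924924a49224924925249249249249249b6db6db4924db6db6dc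

/-- fast form of `pr` for `decide +kernel` -/
def pq (r s : ℕ) : ℤ := (((pqN >>> (216 * r + 3 * s)) % 8 : ℕ) : ℤ) - 2

theorem pq_tab : ∀ r < 72, ∀ s < 72, pr r s = pq r s := by decide +kernel

theorem pq_eq {r s : ℕ} (hr : r < 72) (hs : s < 72) : pr r s = pq r s := pq_tab r hr s hs

theorem ng_eq : ∀ r < 72, ng r = 71 - r := by decide +kernel

theorem ng_lt {r : ℕ} (h : r < 72) : ng r < 72 := by rw [ng_eq r h]; omega

theorem ng_ng {r : ℕ} (h : r < 72) : ng (ng r) = r := T6.neg_neg (lt72.2 h)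

theorem rho_tab : ∀ r < 72, ρ r < 72 ∧ ρ (ρ r) = r ∧ (36 ≤ ρ r ↔ 36 ≤ r) ∧ ρ (ng r) = ng (ρ r) ∧
    (ρ r ≠ r → pr r (ρ r) = 0) ∧ cf (ρ r) 0 = cf r 5 ∧ cf (ρ r) 1 = cf r 1 ∧ cf (ρ r) 2 = cf r 4 ∧
    cf (ρ r) 3 = cf r 3 ∧ cf (ρ r) 4 = cf r 2 ∧ cf (ρ r) 5 = cf r 0 := by decide +kernel

theorem rho_lt {r : ℕ} (h : r < 72) : ρ r < 72 := (rho_tab r h).1

theorem rho_rho {r : ℕ} (h : r < 72) : ρ (ρ r) = r := (rho_tab r h).2.1

theorem rho_pos {r : ℕ} (h : r < 72) : 36 ≤ ρ r ↔ 36 ≤ r := (rho_tab r h).2.2.1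

theorem rho_ng {r : ℕ} (h : r < 72) : ρ (ng r) = ng (ρ r) := (rho_tab r h).2.2.2.1

theorem pr_rho_self {r : ℕ} (h : r < 72) (h' : ρ r ≠ r) : pr r (ρ r) = 0 :=
  (rho_tab r h).2.2.2.2.1 h'

theorem pq_tab1 : ∀ r < 72, ∀ s < 72, pq r s = pq s r ∧ pq (ρ r) (ρ s) = pq r s ∧
    (s ≠ r → pq r s ≤ 1) ∧ (s ≠ 71 - r → -1 ≤ pq r s) ∧
    (ρ r ≠ r → ρ s ≠ s → pq r s = -1 → 0 ≤ pq r (ρ s)) := by decide +kernel

theorem pr_tab (r : ℕ) (hr : r < 72) (s : ℕ) (hs : s < 72) : pr r s = pr s r ∧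
    pr (ρ r) (ρ s) = pr r s ∧ (s ≠ r → pr r s ≤ 1) ∧ (s ≠ ng r → -1 ≤ pr r s) ∧
    (ρ r ≠ r → ρ s ≠ s → pr r s = -1 → 0 ≤ pr r (ρ s)) := by
  rw [pq_eq hr hs, pq_eq hs hr, pq_eq (rho_lt hr) (rho_lt hs), pq_eq hr (rho_lt hs), ng_eq r hr]
  exact pq_tab1 r hr s hs

theorem pr_symm {r s : ℕ} (hr : r < 72) (hs : s < 72) : pr r s = pr s r := (pr_tab r hr s hs).1

theorem pr_rho {r s : ℕ} (hr : r < 72) (hs : s < 72) : pr (ρ r) (ρ s) = pr r s :=
  (pr_tab r hr s hs).2.1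

theorem pr_rho' {r s : ℕ} (hr : r < 72) (hs : s < 72) : pr (ρ r) s = pr r (ρ s) := by
  rw [← pr_rho (rho_lt hr) hs, rho_rho hr]

theorem pr_fix {k r : ℕ} (hk : k < 72) (hr : r < 72) (h : ρ k = k) : pr k (ρ r) = pr k r := by
  rw [← pr_rho' hk hr, h]

theorem pr_le_one {r s : ℕ} (hr : r < 72) (hs : s < 72) (h : s ≠ r) : pr r s ≤ 1 :=
  (pr_tab r hr s hs).2.2.1 h

theorem neg_one_le_pr {r s : ℕ} (hr : r < 72) (hs : s < 72) (h : s ≠ ng r) : -1 ≤ pr r s :=
  (pr_tab r hr s hs).2.2.2.1 h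

/-- two short roots with a sum -/
theorem pr_short {r s : ℕ} (hr : r < 72) (hs : s < 72) (h1 : ρ r ≠ r) (h2 : ρ s ≠ s)
    (h : pr r s = -1) : 0 ≤ pr r (ρ s) := (pr_tab r hr s hs).2.2.2.2 h1 h2 h

theorem pr_self {r : ℕ} (hr : r < 72) : pr r r = 2 := T6.pairing_self r (lt72.2 hr)

theorem pr_ng_left {r : ℕ} (hr : r < 72) (s : ℕ) : pr (ng r) s = -pr r s :=
  T6.pairing_neg_left (lt72.2 hr) s

theorem pr_ng_right (r : ℕ) {s : ℕ} (hs : s < 72) : pr r (ng s) = -pr r s :=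
  T6.pairing_neg_right r (lt72.2 hs)

namespace sm

variable {r s k : ℕ} (h : sm r s k)
include h

theorem hr : r < 72 := h.1

theorem hs : s < 72 := h.2.1

theorem hk : k < 72 := h.2.2.1

theorem toSm : Sm T6 r s k := sm_iff.2 h

theorem symm : sm s r k := sm_iff.1 h.toSm.symm

theorem sub : sm k (ng s) r := sm_iff.1 h.toSm.sub

theorem neg : sm (ng r) (ng s) (ng k) := sm_iff.1 h.toSm.neg

theorem pair (a : ℕ) : pr a k = pr a r + pr a s := h.toSm.pair a

theorem uniq {k' : ℕ} (h' : sm r s k') : k = k' := h.toSm.uniq h'.toSm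

theorem act (w : T6.W) : sm (T6.act w r) (T6.act w s) (T6.act w k) := sm_iff.1 (h.toSm.act w)

theorem rho : sm (ρ r) (ρ s) (ρ k) := by
  obtain ⟨h1, h2, h3, e⟩ := h
  obtain ⟨-, -, -, -, -, a0, a1, a2, a3, a4, a5⟩ := rho_tab r h1
  obtain ⟨-, -, -, -, -, b0, b1, b2, b3, b4, b5⟩ := rho_tab s h2
  obtain ⟨-, -, -, -, -, c0, c1, c2, c3, c4, c5⟩ := rho_tab k h3
  refine ⟨rho_lt h1, rho_lt h2, rho_lt h3, fun i hi => ?_⟩
  have e0 := e 0 (by omega); have e1 := e 1 (by omega); have e2 := e 2 (by omega)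
  have e3 := e 3 (by omega); have e4 := e 4 (by omega); have e5 := e 5 (by omega)
  interval_cases i <;> omega

theorem pr_rs : pr r s = -1 := by
  have h1 := h.pair k
  have h2 := pr_le_one h.hk h.hr h.toSm.ne_left.symm
  have h3 := pr_le_one h.hk h.hs h.toSm.ne_right.symm
  have h4 := h.pair r
  rw [pr_self h.hk] at h1
  rw [pr_self h.hr, pr_symm h.hr h.hk] at h4
  omega

theorem pr_rk : pr r k = 1 := by rw [h.pair, pr_self h.hr, h.pr_rs]; rfl

theorem pr_sk : pr s k = 1 := h.symm.pr_rk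

end sm

theorem exists_sm {r s : ℕ} (hr : r < 72) (hs : s < 72) (h : pr r s = -1) : ∃ k, sm r s k :=
  (SL.exists_sm (T := T6) (lt72.2 hr) (lt72.2 hs) h).imp fun _ h => sm_iff.1 h

theorem symRho : Sym T6 ρ where
  lt _ h := lt72.2 (rho_lt (lt72.1 h))
  inv _ h := rho_rho (lt72.1 h)
  pos _ h := by rw [N6]; exact rho_pos (lt72.1 h)
  neg _ h := rho_ng (lt72.1 h)
  sum _ _ _ h := (sm_iff.1 h).rho.toSm
  pair _ h _ h' := pr_rho (lt72.1 h) (lt72.1 h')
  simple := by decide +kernel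

/-- a long root plus a short root -/
theorem lng_sum {r s k : ℕ} (h1 : ρ r = r) (h2 : ρ s ≠ s) (h : sm r s k) :
    ρ k ≠ k ∧ ∃ k', sm k (ρ s) k' ∧ ρ k' = k' := by
  have h3 := h.rho
  rw [h1] at h3
  refine ⟨fun e => h2 ?_, ?_⟩
  · rw [e] at h3
    exact h3.toSm.uniq' h.toSm
  · obtain ⟨k', h4⟩ := exists_sm h.hk (rho_lt h.hs) (by
      rw [pr_symm h.hk (rho_lt h.hs), h.pair, pr_symm (rho_lt h.hs) h.hr, h3.pr_rs,
        pr_symm (rho_lt h.hs) h.hs, pr_rho_self h.hs h2]; rfl)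
    refine ⟨k', h4, ?_⟩
    have h5 := h4.rho
    rw [rho_rho h.hs] at h5
    refine T6.vec_inj (lt72.2 h5.hk) (lt72.2 h4.hk) ?_
    rw [h5.toSm.eq, h4.toSm.eq, h3.toSm.eq, h.toSm.eq]
    abel

theorem i4_tab : ∀ r < 24, i4 r < 72 ∧ ρ (i4 r) = i4 r ∧ i4 (chevD4.neg r) = ng (i4 r) ∧
    j4 (i4 r) = r ∧ (12 ≤ r ↔ 36 ≤ i4 r) ∧ ∀ s < 24, pr (i4 r) (i4 s) = chevD4.pairing r s := by
  decide +kernel

theorem i4_lt {r : ℕ} (h : r < 24) : i4 r < 72 := (i4_tab r h).1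

theorem rho_i4 {r : ℕ} (h : r < 24) : ρ (i4 r) = i4 r := (i4_tab r h).2.1

theorem i4_neg {r : ℕ} (h : r < 24) : i4 (chevD4.neg r) = ng (i4 r) := (i4_tab r h).2.2.1

theorem j4_i4 {r : ℕ} (h : r < 24) : j4 (i4 r) = r := (i4_tab r h).2.2.2.1

theorem pr_i4 {r s : ℕ} (h : r < 24) (h' : s < 24) : pr (i4 r) (i4 s) = chevD4.pairing r s :=
  (i4_tab r h).2.2.2.2.2 s h'

theorem j4_tab : ∀ k < 72, ρ k = k → j4 k < 24 ∧ i4 (j4 k) = k := by decide +kernel

theorem j4_lt {k : ℕ} (h : k < 72) (h' : ρ k = k) : j4 k < 24 := (j4_tab k h h').1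

theorem i4_j4 {k : ℕ} (h : k < 72) (h' : ρ k = k) : i4 (j4 k) = k := (j4_tab k h h').2

theorem i4_vec : ∀ r < 24, cf (i4 r) 0 = T4.vec r (0 : Fin 4) ∧ cf (i4 r) 1 = T4.vec r (1 : Fin 4) ∧
    cf (i4 r) 2 = T4.vec r (0 : Fin 4) + T4.vec r (2 : Fin 4) ∧
    cf (i4 r) 3 = T4.vec r (0 : Fin 4) + T4.vec r (2 : Fin 4) + T4.vec r (3 : Fin 4) ∧
    cf (i4 r) 4 = T4.vec r (0 : Fin 4) + T4.vec r (2 : Fin 4) ∧
    cf (i4 r) 5 = T4.vec r (0 : Fin 4) := by decide +kernel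

theorem sm_i4 {r s k : ℕ} (h : Sm T4 r s k) : sm (i4 r) (i4 s) (i4 k) := by
  obtain ⟨h1, h2, h3, e⟩ := h
  rw [lt24] at h1 h2 h3
  obtain ⟨a0, a1, a2, a3, a4, a5⟩ := i4_vec r h1
  obtain ⟨b0, b1, b2, b3, b4, b5⟩ := i4_vec s h2
  obtain ⟨c0, c1, c2, c3, c4, c5⟩ := i4_vec k h3
  have e' : ∀ i : Fin 4, T4.vec k i = T4.vec r i + T4.vec s i := fun i => congrFun e i
  have e0 := e' 0; have e1 := e' 1; have e2 := e' 2; have e3 := e' 3
  refine ⟨i4_lt h1, i4_lt h2, i4_lt h3, fun i hi => ?_⟩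
  interval_cases i <;> omega

theorem sm_j4 {r s k : ℕ} (h1 : ρ r = r) (h2 : ρ s = s) (h : sm r s k) :
    ρ k = k ∧ Sm T4 (j4 r) (j4 s) (j4 k) := by
  have h3 : ρ k = k := by
    have := h.rho
    rw [h1, h2] at this
    exact this.uniq h
  obtain ⟨k', h4⟩ := SL.exists_sm (T := T4) (lt24.2 (j4_lt h.hr h1)) (lt24.2 (j4_lt h.hs h2)) (by
    rw [← pr_i4 (j4_lt h.hr h1) (j4_lt h.hs h2), i4_j4 h.hr h1, i4_j4 h.hs h2, h.pr_rs])
  have h5 := sm_i4 h4
  rw [i4_j4 h.hr h1, i4_j4 h.hs h2] at h5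
  refine ⟨h3, ?_⟩
  rwa [h.uniq h5, j4_i4 (lt24.1 h4.hk)]

theorem short_tab : ∀ k < 72, ρ k = k → ∀ r < 72, 0 ≤ pq k r → ∃ u < 72,
    ρ u ≠ u ∧ pq u r = 1 ∧ (ρ r = r ∨ pq u (ρ r) = 0) ∧ 0 ≤ pq k u ∧ pq k u ≤ pq k r := by
  decide +kernel

/-- inside `HH k`, `k` long, every root is a sum of two short roots -/
theorem short_dec {k r : ℕ} (hk : k < 72) (h : ρ k = k) (hr : r < 72) (h0 : 0 ≤ pr k r) :
    ∃ u v, ρ u ≠ u ∧ ρ v ≠ v ∧ sm u v r ∧ 0 ≤ pr k u ∧ 0 ≤ pr k v := by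
  obtain ⟨u, hu, h1, h2, h3, h4, h5⟩ := short_tab k hk h r hr (pq_eq hk hr ▸ h0)
  rw [← pq_eq hu hr] at h2
  rw [← pq_eq hu (rho_lt hr)] at h3
  rw [← pq_eq hk hu] at h4 h5
  rw [← pq_eq hk hr] at h5
  obtain ⟨v, hv⟩ := exists_sm (ng_lt hu) hr (by rw [pr_ng_left hu, h2])
  have h6 := hv.symm.sub
  rw [ng_ng hu] at h6
  have h7 := h6.pair k
  refine ⟨u, v, h1, fun e => ?_, h6.symm, h4, by omega⟩
  have h8 := h6.rho
  rw [e] at h8
  rcases h3 with h3 | h3
  · rw [h3] at h8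
    exact h1 (h8.toSm.uniq' h6.toSm)
  · have h9 := h8.pair u
    have h10 := h6.pr_rs
    rw [pr_symm h6.hr hu] at h10
    rw [pr_rho_self hu h1] at h9
    omega

end Cfsg.Agent.TwE
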